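import Cfsg.Agent.Lib.Golay.M24Group
import Cfsg.Agent.Lib.Combin.AbstractGolay

/-!
# The code of length 24 as a module for its group

Coordinate permutations of words, self-duality, and the code is spanned by its octads.
-/

set_option autoImplicit false

namespace CfsgLib.GolayModule

open Cfsg CfsgLib.Golay
open scoped Pointwise

/-- Words of length 24. -/
abbrev Word : Type := GolayPt → ZMod 2

/-- A permutation of coordinates acting on words. -/
def act (σ : Equiv.Perm GolayPt) (w : Word) : Word := fun p => w (σ.symm p)

theorem act_apply (σ : Equiv.Perm GolayPt) (w : Word) (p : GolayPt) : act σ w p = w (σ.symm p) := rfl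

theorem act_one (w : Word) : act 1 w = w := rfl

theorem act_mul (σ τ : Equiv.Perm GolayPt) (w : Word) : act (σ * τ) w = act σ (act τ w) := rfl

theorem act_add (σ : Equiv.Perm GolayPt) (v w : Word) : act σ (v + w) = act σ v + act σ w := rfl

theorem act_sub (σ : Equiv.Perm GolayPt) (v w : Word) : act σ (v - w) = act σ v - act σ w := rfl

theorem act_const (σ : Equiv.Perm GolayPt) : act σ 1 = 1 := rfl

theorem support₂_act (σ : Equiv.Perm GolayPt) (w : Word) : support₂ (act σ w) = σ • support₂ w := by
  ext p
  rw [← Finset.inv_smul_mem_iff]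
  constructor <;> intro h <;>
    exact Finset.mem_filter.mpr ⟨Finset.mem_univ _, (Finset.mem_filter.mp h).2⟩

theorem enc_act (σ : Equiv.Perm GolayPt) (w : Word) : enc (act σ w) = pmap (toList σ) (enc w) := by
  rw [enc_eq_encS, enc_eq_encS, support₂_act, encS_smul]

theorem act_mem_code {σ : Equiv.Perm GolayPt} (hσ : σ ∈ M24) {w : Word} (hw : w ∈ golayCode) :
    act σ w ∈ golayCode := by
  rw [mem_golayCode, enc_eq_encS, support₂_act, ← mem_supports]
  exact smul_mem_supports hσ ⟨w, hw, rfl⟩

/-- A word is determined by its support. -/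
theorem word_ext {v w : Word} (h : support₂ v = support₂ w) : v = w :=
  CfsgLib.Combin.AbstractGolay.support₂_injective h

/-- The inner product of two words. -/
def dot (v w : Word) : ZMod 2 := ∑ i, v i * w i

theorem dot_comm (v w : Word) : dot v w = dot w v :=
  Finset.sum_congr rfl fun _ _ => mul_comm _ _

theorem dot_add_left (u v w : Word) : dot (u + v) w = dot u w + dot v w := by
  simp [dot, add_mul, Finset.sum_add_distrib]

theorem dot_add_right (u v w : Word) : dot u (v + w) = dot u v + dot u w := by
  simp [dot, mul_add, Finset.sum_add_distrib]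

theorem dot_zero_right (u : Word) : dot u 0 = 0 := by simp [dot]

theorem dot_sub_left (u v w : Word) : dot (u - v) w = dot u w - dot v w := by
  simp [dot, sub_mul, Finset.sum_sub_distrib]

theorem dot_act (σ : Equiv.Perm GolayPt) (v w : Word) : dot (act σ v) (act σ w) = dot v w :=
  Equiv.sum_comp σ.symm fun i => v i * w i

theorem dot_eq_card (v w : Word) :
    dot v w = (((support₂ v ∩ support₂ w).card : ℕ) : ZMod 2) := sum_mul_eq_card v w

theorem dot_dec (v : Word) (n : ℕ) :
    dot v (dec n) = ((popc (enc v &&& enc (dec n)) : ℕ) : ZMod 2) := by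
  rw [dot_eq_card, ← popc_encS, encS_inter, enc_eq_encS, enc_eq_encS]

theorem isGolay : CfsgLib.Combin.AbstractGolay.IsGolay golayCode where
  len := card_golayPt
  dim := finrank_golayCode
  orth _ hv _ hw := self_orthogonal hv hw
  min w hw hne := by
    rw [hammingNorm_eq_card_support₂]
    refine eight_le_card_support ⟨w, hw, rfl⟩ ?_
    rw [Finset.nonempty_iff_ne_empty]
    intro h
    exact hne (word_ext (h.trans (by ext p; simp [support₂])))

theorem mem_of_dot {v : Word} (h : ∀ c ∈ golayCode, dot v c = 0) : v ∈ golayCode :=
  CfsgLib.Combin.AbstractGolay.mem_of_orth isGolay v h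

theorem dot_code {v w : Word} (hv : v ∈ golayCode) (hw : w ∈ golayCode) : dot v w = 0 :=
  self_orthogonal hv hw

theorem one_mem : (1 : Word) ∈ golayCode := Submodule.subset_span (Set.mem_union_right _ rfl)

theorem gens_lt : ∀ g ∈ gens, g < 2 ^ 24 := by decide +kernel

/-- A word orthogonal to the twelve basis words is in the code. -/
theorem mem_of_dot_gens {v : Word} (h : ∀ g ∈ gens, dot v (dec g) = 0) : v ∈ golayCode := by
  refine mem_of_dot fun c hc => ?_
  rw [← dec_enc c, ← isCode_iff.mp (mem_golayCode.mp hc)]
  refine spanWord_induction (P := fun n => dot v (dec n) = 0) gens ?_ ?_ h _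
  · rw [dec_zero, dot_zero_right]
  · intro a b ha hb
    rw [dec_xor, dot_add_right, ha, hb, add_zero]

/-- The code word with a given support. -/
def indic (b : Finset GolayPt) : Word := fun p => if p ∈ b then 1 else 0

theorem support₂_indic (b : Finset GolayPt) : support₂ (indic b) = b := by
  ext p; simp [support₂, indic]

theorem indic_support₂ (w : Word) : indic (support₂ w) = w := word_ext (support₂_indic _)

theorem dec_eq_indic (n : ℕ) : dec n = indic (decS n) := word_ext (by rw [support₂_dec, support₂_indic])

theorem act_indic (σ : Equiv.Perm GolayPt) (b : Finset GolayPt) : act σ (indic b) = indic (σ • b) :=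
  word_ext (by rw [support₂_act, support₂_indic, support₂_indic])

theorem indic_mem {b : Finset GolayPt} (hb : b ∈ octads) : indic b ∈ golayCode := by
  obtain ⟨w, hw, rfl⟩ := hb.1
  rw [indic_support₂]; exact hw

/-- The code is spanned by the octads. -/
theorem code_le_of_octads {W : Submodule (ZMod 2) Word} (h : ∀ o ∈ octads, indic o ∈ W) :
    golayCode ≤ W := by
  rw [← CfsgLib.Combin.AbstractGolay.span_octads isGolay, Submodule.span_le]
  intro w hw
  rw [SetLike.mem_coe, ← indic_support₂ w]
  refine h _ ⟨⟨w, hw.1, rfl⟩, ?_⟩
  rw [← hammingNorm_eq_card_support₂]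
  exact hw.2

end CfsgLib.GolayModule
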