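import Cfsg.Agent.Lib.GolayModule.Basic
import Cfsg.Agent.Lib.ThreeTrans.GolayShift

/-!
# Invariant subspaces of the 24-dimensional permutation module

For an invariant subspace `W`: if some word of `W` has odd weight outside some octad, then summing over the
regular group of order 16 on the complement of that octad puts all octad complements, hence the whole code,
into `W`; otherwise `W` lies in the code.
-/

set_option autoImplicit false

namespace CfsgLib.GolayModule

open Cfsg CfsgLib.Golay
open scoped Pointwise

/-- Sixteen elements fixing the base octad pointwise. -/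
def transList : List (List ℕ) :=
  [0, 1, 2, 3, 4, 5, 6, 16, 25, 26, 27, 32, 74, 84, 132, 326].map fun i =>
    perms.getD i (List.range 24)

/-- The points outside the base octad. -/
def outList : List ℕ := (List.range 24).filter fun i => !(Nat.testBit 8536111 i)

theorem transList_regular : ∀ i : Fin 24,
    if Nat.testBit 8536111 i.val = true then ∀ l ∈ transList, l.getD i.val 0 = i.val
    else (transList.map fun l => l.getD i.val 0).Perm outList := by decide +kernel

/-- Reading a word through a list of images. -/
def pullL (l : List ℕ) (w : Word) : Word :=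
  fun p => w (pt ⟨l.getD (idx p).val 0 % 24, Nat.mod_lt _ (by norm_num)⟩)

theorem pullL_toList (σ : Equiv.Perm GolayPt) (w : Word) : pullL (toList σ) w = act σ⁻¹ w := by
  funext p
  simp only [pullL, toList_getD, Nat.mod_eq_of_lt (idx (σ p)).isLt, Fin.eta, pt_idx, act]
  rfl

/-- The value of a word at a position. -/
def atPos (w : Word) (n : ℕ) : ZMod 2 := w (pt ⟨n % 24, Nat.mod_lt _ (by norm_num)⟩)

theorem sum_transList (w : Word) :
    (transList.map fun l => pullL l w).sum =
      ((outList.map (atPos w)).sum) • (1 + indic baseOctad : Word) := by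
  funext p
  rw [Pi.list_sum_apply, List.map_map, Pi.smul_apply, smul_eq_mul, Pi.add_apply]
  have hp := transList_regular (idx p)
  show ((transList.map fun l => pullL l w p)).sum = _
  by_cases hb : Nat.testBit 8536111 (idx p).val = true
  · rw [if_pos hb] at hp
    have hm : p ∈ baseOctad := mem_decS.mpr hb
    have : ∀ x ∈ transList.map (fun l => pullL l w p), x = atPos w (idx p).val := by
      intro x hx
      obtain ⟨l, hl, rfl⟩ := List.mem_map.mp hx
      simp only [pullL, atPos, hp l hl]
    rw [List.eq_replicate_of_mem this, List.sum_replicate, List.length_map]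
    simp only [indic, if_pos hm, Pi.one_apply, transList, List.length_map, List.length_cons, List.length_nil, nsmul_eq_mul]
    rw [CharTwo.add_self_eq_zero (1 : ZMod 2), mul_zero, mul_eq_zero]
    exact Or.inl (by decide)
  · rw [if_neg hb] at hp
    have hm : p ∉ baseOctad := fun h => hb (mem_decS.mp h)
    have := (hp.map (atPos w)).sum_eq
    rw [List.map_map] at this
    simp only [indic, if_neg hm, Pi.one_apply, add_zero, mul_one]
    exact this

variable {W : Submodule (ZMod 2) Word} (hW : ∀ σ ∈ M24, ∀ w ∈ W, act σ w ∈ W)
include hW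

theorem outside_mem {w : Word} (hw : w ∈ W) (h : (outList.map (atPos w)).sum ≠ 0) :
    (1 + indic baseOctad : Word) ∈ W := by
  have hmem : (transList.map fun l => pullL l w).sum ∈ W := by
    refine W.list_sum_mem ?_
    intro x hx
    obtain ⟨l, hl, rfl⟩ := List.mem_map.mp hx
    obtain ⟨i, -, rfl⟩ := List.mem_map.mp hl
    obtain ⟨σ, hσ, hσl⟩ := inG0_getD inG0_perms i
    rw [← hσl, pullL_toList]
    exact hW _ (inv_mem (G0_le_M24 hσ)) w hw
  have h1 : (outList.map (atPos w)).sum = 1 := by
    revert h; generalize (outList.map (atPos w)).sum = a; revert a; decide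
  rwa [sum_transList, h1, one_smul] at hmem

theorem all_outside_mem (h : (1 + indic baseOctad : Word) ∈ W) {o : Finset GolayPt} (ho : o ∈ octads) :
    (1 + indic o : Word) ∈ W := by
  obtain ⟨g, hg, rfl⟩ := exists_smul_baseOctad_eq ho
  rw [← act_indic, ← act_const g, ← act_add]
  exact hW g hg _ h

omit hW in
theorem three_octads : ∃ a b c : Finset GolayPt, a ∈ octads ∧ b ∈ octads ∧ c ∈ octads ∧
    indic a + indic b + indic c = (0 : Word) := by
  refine ⟨decS 8536111, decS 13062145, decS 4526126, ?_, ?_, ?_, ?_⟩
  iterate 3 rw [mem_octads, encS_decS (by norm_num)]; decide +kernel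
  rw [← dec_eq_indic, ← dec_eq_indic, ← dec_eq_indic, ← dec_xor, ← dec_xor,
    show 8536111 ^^^ 13062145 ^^^ 4526126 = 0 by decide +kernel, dec_zero]

omit hW in
theorem zmod_two_add_self (v : Word) : v + v = 0 := by
  funext p; exact CharTwo.add_self_eq_zero _

theorem code_le_of_outside (h : (1 + indic baseOctad : Word) ∈ W) : golayCode ≤ W := by
  obtain ⟨a, b, c, ha, hb, hc, habc⟩ := three_octads
  have h1 : (1 : Word) ∈ W := by
    have h3 := add_mem (add_mem (all_outside_mem hW h ha) (all_outside_mem hW h hb))
      (all_outside_mem hW h hc)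
    have e : (1 + indic a) + (1 + indic b) + (1 + indic c) = (1 : Word) := by
      calc (1 + indic a) + (1 + indic b) + (1 + indic c)
          = ((1 + 1) + 1) + (indic a + indic b + indic c) := by abel
        _ = (1 : Word) := by rw [habc, zmod_two_add_self, zero_add, add_zero]
    rwa [e] at h3
  refine code_le_of_octads fun o ho => ?_
  have e : (1 : Word) + (1 + indic o) = indic o := by rw [← add_assoc, zmod_two_add_self, zero_add]
  exact e ▸ add_mem h1 (all_outside_mem hW h ho)

omit hW in
theorem dot_outside (w : Word) : dot w (1 + indic baseOctad) = (outList.map (atPos w)).sum := by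
  have h : (Finset.univ.filter fun p => p ∉ baseOctad) =
      (outList.map fun n => pt ⟨n % 24, Nat.mod_lt _ (by norm_num)⟩).toFinset := by
    decide +kernel
  have hn : (outList.map fun n => pt ⟨n % 24, Nat.mod_lt _ (by norm_num)⟩).Nodup := by decide +kernel
  have e : dot w (1 + indic baseOctad) = ∑ p ∈ Finset.univ.filter (fun p => p ∉ baseOctad), w p := by
    rw [Finset.sum_filter]
    refine Finset.sum_congr rfl fun p _ => ?_
    by_cases hp : p ∈ baseOctad <;> simp [indic, hp, CharTwo.add_self_eq_zero]
  rw [e, h, List.sum_toFinset _ hn, List.map_map]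
  rfl

/-- Either `W` contains the code, or it lies in it. -/
theorem le_or_ge_code : golayCode ≤ W ∨ W ≤ golayCode := by
  by_cases h : ∃ w ∈ W, (outList.map (atPos w)).sum ≠ 0
  · obtain ⟨w, hw, h⟩ := h
    exact Or.inl (code_le_of_outside hW (outside_mem hW hw h))
  right
  push Not at h
  intro w hw
  have key : ∀ o ∈ octads, dot w (1 + indic o) = 0 := by
    intro o ho
    obtain ⟨g, hg, rfl⟩ := exists_smul_baseOctad_eq ho
    have e : dot w (1 + indic (g • baseOctad)) = dot (act g⁻¹ w) (1 + indic baseOctad) := by
      rw [← dot_act g (act g⁻¹ w), ← act_mul, mul_inv_cancel, act_one, act_add, act_indic, act_const]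
    rw [e, dot_outside]
    exact h _ (hW _ (inv_mem hg) w hw)
  obtain ⟨a, b, c, ha, hb, hc, habc⟩ := three_octads
  have h1 : dot w 1 = 0 := by
    have h3 := congrArg₂ (· + ·) (congrArg₂ (· + ·) (key a ha) (key b hb)) (key c hc)
    simp only [dot_add_right, add_zero] at h3
    have h4 : dot w (indic a) + dot w (indic b) + dot w (indic c) = 0 := by
      rw [← dot_add_right, ← dot_add_right, habc, dot_zero_right]
    generalize dot w 1 = x at h3 ⊢
    generalize dot w (indic a) = p at h3 h4
    generalize dot w (indic b) = q at h3 h4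
    generalize dot w (indic c) = r at h3 h4
    revert x p q r; decide
  refine mem_of_dot fun v hv => ?_
  let K : Submodule (ZMod 2) Word :=
    { carrier := {v | dot w v = 0}
      add_mem' := fun {x y} hx hy => by
        rw [Set.mem_setOf_eq] at *; rw [dot_add_right, hx, hy, add_zero]
      zero_mem' := dot_zero_right w
      smul_mem' := fun r x hx => by
        rw [Set.mem_setOf_eq] at *
        rcases (show ∀ r : ZMod 2, r = 0 ∨ r = 1 by decide) r with rfl | rfl
        · rw [zero_smul, dot_zero_right]
        · rw [one_smul, hx] }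
  have hK : ∀ o ∈ octads, indic o ∈ K := fun o ho => by
    show dot w (indic o) = 0
    have := key o ho
    rwa [dot_add_right, h1, zero_add] at this
  exact code_le_of_octads hK hv

theorem of_le_code (hle : W ≤ golayCode) :
    W = ⊥ ∨ W = Submodule.span (ZMod 2) {1} ∨ W = golayCode := by
  rcases ThreeTrans.GolayShift.irreducible (W := W ⊔ Submodule.span (ZMod 2) {1})
    (Submodule.mem_sup_right (Submodule.mem_span_singleton_self 1))
    (sup_le hle ((Submodule.span_singleton_le_iff_mem _ _).mpr one_mem))
    (fun t w hw => by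
      obtain ⟨x, hx, y, hy, rfl⟩ := Submodule.mem_sup.mp hw
      refine Submodule.mem_sup.mpr ⟨_, hW _ (ThreeTrans.GolayShift.shift_mem t) x hx, y, hy, ?_⟩
      obtain ⟨c, rfl⟩ := Submodule.mem_span_singleton.mp hy
      rfl) with h | h
  · have hs : W ≤ Submodule.span (ZMod 2) {1} := h ▸ le_sup_left
    by_cases h1 : (1 : Word) ∈ W
    · exact Or.inr (Or.inl (le_antisymm hs ((Submodule.span_singleton_le_iff_mem _ _).mpr h1)))
    · refine Or.inl ((Submodule.eq_bot_iff _).mpr fun x hx => ?_)
      obtain ⟨c, rfl⟩ := Submodule.mem_span_singleton.mp (hs hx)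
      rcases (show ∀ c : ZMod 2, c = 0 ∨ c = 1 by decide) c with rfl | rfl
      · exact zero_smul _ _
      · exact absurd (by simpa using hx) h1
  · refine Or.inr (Or.inr ?_)
    by_cases h1 : (1 : Word) ∈ W
    · rwa [sup_eq_left.mpr ((Submodule.span_singleton_le_iff_mem _ _).mpr h1)] at h
    · exfalso
      by_cases ho : ∃ o ∈ octads, indic o ∈ W
      · obtain ⟨o, ho, hoW⟩ := ho
        refine h1 (code_le_of_octads (W := W) (fun o' ho' => ?_) one_mem)
        obtain ⟨g, hg, rfl⟩ := exists_smul_octad_eq ho ho'
        rw [← act_indic]; exact hW g hg _ hoW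
      push Not at ho
      have hbase : (1 + indic baseOctad : Word) ∈ W := by
        have hm := indic_mem baseOctad_mem
        rw [← h] at hm
        obtain ⟨x, hx, y, hy, hxy⟩ := Submodule.mem_sup.mp hm
        obtain ⟨c, rfl⟩ := Submodule.mem_span_singleton.mp hy
        rcases (show ∀ c : ZMod 2, c = 0 ∨ c = 1 by decide) c with rfl | rfl
        · have e : x = indic baseOctad := by simpa using hxy
          exact absurd (e ▸ hx) (ho _ baseOctad_mem)
        · have e : x = 1 + indic baseOctad := by
            rw [← hxy, one_smul, add_comm x, ← add_assoc, zmod_two_add_self, zero_add]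
          exact e ▸ hx
      exact h1 (code_le_of_outside hW hbase one_mem)

omit hW in
/-- The words orthogonal to a subspace. -/
def orth (W : Submodule (ZMod 2) Word) : Submodule (ZMod 2) Word :=
  W.dualAnnihilator.comap (dotProductEquiv (ZMod 2) GolayPt).toLinearMap

omit hW in
theorem mem_orth {W : Submodule (ZMod 2) Word} {u : Word} : u ∈ orth W ↔ ∀ v ∈ W, dot u v = 0 := by
  simp only [orth, Submodule.mem_comap, Submodule.mem_dualAnnihilator]
  rfl

omit hW in
theorem mem_of_orth_orth {W : Submodule (ZMod 2) Word} {v : Word} (h : ∀ u ∈ orth W, dot u v = 0) :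
    v ∈ W := by
  rw [← Subspace.dualAnnihilator_dualCoannihilator_eq (W := W), Submodule.mem_dualCoannihilator]
  intro φ hφ
  obtain ⟨u, rfl⟩ := (dotProductEquiv (ZMod 2) GolayPt).surjective φ
  exact h u hφ

theorem classification :
    W = ⊥ ∨ W = Submodule.span (ZMod 2) {1} ∨ W = golayCode ∨
      (W : Set Word) = {w | ∑ p, w p = 0} ∨ W = ⊤ := by
  rcases le_or_ge_code hW with hge | hle
  · have hor : ∀ σ ∈ M24, ∀ u ∈ orth W, act σ u ∈ orth W := by
      intro σ hσ u hu
      rw [mem_orth] at hu ⊢
      intro v hv
      have e : v = act σ (act σ⁻¹ v) := by rw [← act_mul, mul_inv_cancel, act_one]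
      rw [e, dot_act]
      exact hu _ (hW _ (inv_mem hσ) v hv)
    have hsub : orth W ≤ golayCode := fun u hu => mem_of_dot fun c hc => mem_orth.mp hu c (hge hc)
    rcases of_le_code hor hsub with h | h | h
    · refine Or.inr (Or.inr (Or.inr (Or.inr (eq_top_iff.mpr fun v _ => mem_of_orth_orth fun u hu => ?_))))
      rw [h, Submodule.mem_bot] at hu
      simp [hu, dot]
    · refine Or.inr (Or.inr (Or.inr (Or.inl (Set.ext fun v => ⟨fun hv => ?_, fun hv => ?_⟩))))
      · have := mem_orth.mp (h.symm ▸ Submodule.mem_span_singleton_self 1 : (1 : Word) ∈ orth W) v hv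
        simpa [dot] using this
      · refine mem_of_orth_orth fun u hu => ?_
        rw [h] at hu
        obtain ⟨c, rfl⟩ := Submodule.mem_span_singleton.mp hu
        have hv' : ∑ p, v p = 0 := hv
        simp [dot, ← Finset.mul_sum, hv']
    · refine Or.inr (Or.inr (Or.inl (le_antisymm (fun v hv => mem_of_dot fun c hc => ?_) hge)))
      rw [dot_comm]
      exact mem_orth.mp (h.symm ▸ hc : c ∈ orth W) v hv
  · rcases of_le_code hW hle with h | h | h
    · exact Or.inl h
    · exact Or.inr (Or.inl h)
    · exact Or.inr (Or.inr (Or.inl h))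

end CfsgLib.GolayModule
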