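import Cfsg.Agent.Lib.GolayModule.Basic

/-!
# Permutations given by image lists, and the span test for coset fixing
-/

set_option autoImplicit false

namespace CfsgLib.GolayModule

open Cfsg CfsgLib.Golay
open scoped Pointwise

/-- The function of an image list on the positions. -/
def listFun (l : List ℕ) (p : GolayPt) : GolayPt :=
  pt ⟨l.getD (idx p).val 0 % 24, Nat.mod_lt _ (by norm_num)⟩

/-- A permutation from an image list and the list of its inverse. -/
def permOf (l m : List ℕ) (h : ∀ p, listFun m (listFun l p) = p)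
    (h' : ∀ p, listFun l (listFun m p) = p) : Equiv.Perm GolayPt :=
  ⟨listFun l, listFun m, h, h'⟩

/-- The two lists are inverse permutations preserving the code and fixing the mask `u`. -/
def StabData (u : ℕ) (x : List ℕ × List ℕ) : Prop :=
  (∀ p, listFun x.2 (listFun x.1 p) = p) ∧ (∀ p, listFun x.1 (listFun x.2 p) = p) ∧
    (List.ofFn fun i : Fin 24 => (idx (listFun x.1 (pt i))).val) = x.1 ∧
    isPres x.1 = true ∧ pmap x.1 u = u

theorem StabData.exists_perm {u : ℕ} {x : List ℕ × List ℕ} (h : StabData u x) :
    ∃ σ ∈ M24, toList σ = x.1 ∧ pmap x.1 u = u := by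
  obtain ⟨h1, h2, h3, h4, h5⟩ := h
  have e : toList (permOf x.1 x.2 h1 h2) = x.1 := h3
  exact ⟨permOf x.1 x.2 h1 h2, by rw [mem_M24_iff_isPres, e, h4], e, h5⟩

/-- The differences of the basis words and their images. -/
def diffs (L : List (List ℕ × List ℕ)) : List ℕ :=
  L.flatMap fun x => gens.map fun g => g ^^^ pmap x.1 g

/-- If the differences of the listed stabilising elements span the code, every word outside the code is
moved off its coset by one of them. -/
theorem exists_moves_coset {u : ℕ} {L : List (List ℕ × List ℕ)} (hL : ∀ x ∈ L, StabData u x)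
    {co : List ℕ} (hco : co.map (spanWord (diffs L)) = gens) {u' : Word} (hu' : enc u' = u)
    {w : Word} (hw : w ∉ golayCode) :
    ∃ σ ∈ M24, act σ u' = u' ∧ act σ w - w ∉ golayCode := by
  by_contra hcon
  push Not at hcon
  apply hw
  apply mem_of_dot_gens
  intro g hg
  rw [← hco, List.mem_map] at hg
  obtain ⟨c, -, rfl⟩ := hg
  refine spanWord_induction (P := fun n => dot w (dec n) = 0) (diffs L) ?_ ?_ ?_ c
  · rw [dec_zero, dot_zero_right]
  · intro a b ha hb
    rw [dec_xor, dot_add_right, ha, hb, add_zero]
  · intro v hv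
    rw [diffs, List.mem_flatMap] at hv
    obtain ⟨x, hx, hv⟩ := hv
    rw [List.mem_map] at hv
    obtain ⟨g, hg, rfl⟩ := hv
    obtain ⟨σ, hσ, hl, hfix⟩ := (hL x hx).exists_perm
    have hfix' : act σ u' = u' := enc_injective (by rw [enc_act, hl, hu', hfix])
    have hmem := hcon σ hσ hfix'
    have hgc : dec g ∈ golayCode := dec_mem_of_isCode (isCode_gens g hg)
    have e : dec (pmap x.1 g) = act σ (dec g) := by
      apply enc_injective
      rw [enc_dec (by rw [← hl, ← enc_dec (gens_lt g hg), ← enc_act]; exact enc_lt _), enc_act,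
        enc_dec (gens_lt g hg), hl]
    rw [dec_xor, dot_add_right, e]
    have h0 := dot_code hmem (act_mem_code hσ hgc)
    rw [dot_sub_left, dot_act, sub_eq_zero] at h0
    rw [h0, CharTwo.add_self_eq_zero]

end CfsgLib.GolayModule
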